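import Groth.Agent.FittX.Free
import Groth.Agent.S6896
import Groth.Agent.BlowUpLib.Local
import Groth.Prelude.Def_FlatCA

/-!
# Fitting ideals and strict transforms (Raynaud)
-/

universe u

open Module TensorProduct

namespace Groth.Agent.FittBlow95

open Groth.Agent.FittX

variable {R : Type u} [CommRing R] {M : Type u} [AddCommGroup M] [Module R M]

theorem mem_powTorsion (a : R) (x : M) :
    x ∈ FlatCA.powTorsion R a M ↔ ∃ n : ℕ, a ^ n • x = 0 := by
  have hd : Directed (· ≤ ·) fun n : ℕ => Submodule.torsionBy R M (a ^ n) := fun i j => by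
    refine ⟨i + j, fun y hy => ?_, fun y hy => ?_⟩ <;> rw [Submodule.mem_torsionBy_iff] at hy ⊢
    · rw [pow_add, mul_comm, mul_smul, hy, smul_zero]
    · rw [pow_add, mul_smul, hy, smul_zero]
  rw [FlatCA.powTorsion, Submodule.mem_iSup_of_directed _ hd]
  simp [Submodule.mem_torsionBy_iff]

/-- Killed by a power on every prime not containing `a`. -/
theorem exists_pow_smul_eq_zero {a x : R} (h : ∀ p : Ideal R, p.IsPrime → a ∉ p → ∃ s, s ∉ p ∧ s * x = 0) :
    ∃ n : ℕ, a ^ n * x = 0 := by
  have hmem : a ∈ (Submodule.annihilator (Submodule.span R {x})).radical := by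
    rw [Ideal.radical_eq_sInf]
    refine Submodule.mem_sInf.2 fun p ⟨hle, hp⟩ => ?_
    by_contra hap
    obtain ⟨s, hs, hsx⟩ := h p hp hap
    exact hs (hle ((Submodule.mem_annihilator_span_singleton x s).2 hsx))
  obtain ⟨n, hn⟩ := hmem
  exact ⟨n, (Submodule.mem_annihilator_span_singleton x _).1 hn⟩

/-- Lower Fitting ideals vanish where the module is locally free. -/
theorem pow_mul_eq_zero_of_free [Module.Finite R M] {a : R} {k j : ℕ} (hj : j < k)
    (h : ∀ p : Ideal R, p.IsPrime → a ∉ p → ∃ S : Submonoid R, Disjoint (S : Set R) p ∧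
      Nonempty (Basis (Fin k) (Localization S) (LocalizedModule S M)))
    {x : R} (hx : x ∈ Fitt.ideal R M j) : ∃ n : ℕ, a ^ n * x = 0 := by
  refine exists_pow_smul_eq_zero fun p hp hap => ?_
  obtain ⟨S, hS, ⟨b⟩⟩ := h p hp hap
  have h0 : algebraMap R (Localization S) x = 0 := by
    rw [← Ideal.mem_bot]
    haveI : Module.Finite (Localization S) (LocalizedModule S M) :=
      Module.Finite.of_isLocalizedModule S (LocalizedModule.mkLinearMap S M)
    rw [← ideal_eq_bot_of_free _ j k b hj, ideal_baseChange (isBaseChange_mkLinearMap M S) j]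
    exact Ideal.mem_map_of_mem _ hx
  obtain ⟨⟨s, hs⟩, hsx⟩ := (IsLocalization.map_eq_zero_iff S _ _).1 h0
  exact ⟨s, fun hsp => Set.disjoint_left.1 hS hs hsp, hsx⟩

theorem mk_eq_zero_iff' {S : Submonoid R} {m : M} {s : S} :
    LocalizedModule.mk m s = 0 ↔ ∃ t ∈ S, t • m = 0 := by
  rw [← LocalizedModule.zero_mk (1 : S), LocalizedModule.mk_eq]
  constructor
  · rintro ⟨u, hu⟩
    exact ⟨u.1, u.2, by simpa [Submonoid.smul_def] using hu⟩
  · rintro ⟨t, ht, h⟩
    exact ⟨⟨t, ht⟩, by simpa [Submonoid.smul_def] using h⟩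

/-- If the `k`-th Fitting ideal is `(a)`, killing `a`-power torsion leaves a `k`-generated module, locally. -/
theorem ideal_quot_torsion_eq_top [Module.Finite R M] {a : R} {k : ℕ}
    (h : Fitt.ideal R M k = Ideal.span {a}) :
    Fitt.ideal R (M ⧸ FlatCA.powTorsion R a M) k = ⊤ := by
  by_contra hne
  obtain ⟨p, hp, hle⟩ := Ideal.exists_le_maximal _ hne
  refine (not_le_iff_atPrime (M ⧸ FlatCA.powTorsion R a M) k p).2 ?_ hle
  let S := p.primeCompl
  haveI : Module.Finite (Localization.AtPrime p) (LocalizedModule S M) :=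
    Module.Finite.of_isLocalizedModule S (LocalizedModule.mkLinearMap S M)
  have hf : Fitt.ideal (Localization.AtPrime p) (LocalizedModule S M) k =
      Ideal.span {algebraMap R (Localization.AtPrime p) a} := by
    rw [ideal_baseChange (isBaseChange_mkLinearMap M S) k, h, Ideal.map_span, Set.image_singleton]
  obtain ⟨g, hg⟩ := Groth.Agent.S6896.result (LocalizedModule S M) k _ hf
  let q : LocalizedModule S M →ₗ[Localization.AtPrime p] LocalizedModule S (M ⧸ FlatCA.powTorsion R a M) :=
    LocalizedModule.map S (FlatCA.powTorsion R a M).mkQ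
  have hq : Function.Surjective q :=
    LocalizedModule.map_surjective S _ (Submodule.mkQ_surjective _)
  have hker : LinearMap.ker (algebraMap R (Localization.AtPrime p) a •
      (LinearMap.id : LocalizedModule S M →ₗ[Localization.AtPrime p] LocalizedModule S M)) ≤ LinearMap.ker q := by
    intro y hy
    induction y using LocalizedModule.induction_on with
    | h m s => ?_
    simp only [LinearMap.mem_ker, LinearMap.smul_apply, LinearMap.id_apply, algebraMap_smul,
      LocalizedModule.smul'_mk, mk_eq_zero_iff'] at hy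
    obtain ⟨t, ht, hty⟩ := hy
    simp only [LinearMap.mem_ker, q, LocalizedModule.map_mk, mk_eq_zero_iff']
    refine ⟨t, ht, ?_⟩
    rw [← map_smul, Submodule.mkQ_apply, Submodule.Quotient.mk_eq_zero, mem_powTorsion]
    exact ⟨1, by rw [pow_one, smul_comm]; exact hty⟩
  refine ⟨fun i => Submodule.liftQ _ q hker (g i), ?_⟩
  rw [show (fun i => Submodule.liftQ _ q hker (g i)) = Submodule.liftQ _ q hker ∘ g from rfl, Set.range_comp,
    Submodule.span_image, hg, Submodule.map_top, LinearMap.range_eq_top]
  intro z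
  obtain ⟨y, rfl⟩ := hq z
  exact ⟨Submodule.Quotient.mk y, rfl⟩

/-- Fitting ideals of a module killed by `a`-powers vanish on the quotient by torsion. -/
theorem ideal_quot_torsion_eq_bot [Module.Finite R M] {a : R} (ha : a ∈ nonZeroDivisors R) {j : ℕ}
    (h : ∀ x ∈ Fitt.ideal R M j, ∃ n : ℕ, a ^ n * x = 0) :
    Fitt.ideal R (M ⧸ FlatCA.powTorsion R a M) j = ⊥ := by
  classical
  obtain ⟨n, x, hx⟩ := exists_gen R M
  have hx' : Submodule.span R (Set.range (((FlatCA.powTorsion R a M).mkQ) ∘ x)) = ⊤ := by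
    rw [Set.range_comp, Submodule.span_image, hx, Submodule.map_top, Submodule.range_mkQ]
  rw [ideal_eq_minors _ hx', eq_bot_iff]
  conv_lhs => rw [← Submodule.span_eq (rel (R := R) (((FlatCA.powTorsion R a M).mkQ) ∘ x))]
  refine minors_le_of_span (span_proj n) fun φ _ z hz => ?_
  have hz' : ∀ b, ∃ t : ℕ, a ^ t • z b ∈ rel (R := R) x := by
    intro b
    have h1 : (FlatCA.powTorsion R a M).mkQ (∑ i, z b i • x i) = 0 := by
      rw [map_sum]; simpa using mem_rel.1 (hz b)
    rw [Submodule.mkQ_apply, Submodule.Quotient.mk_eq_zero, mem_powTorsion] at h1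
    obtain ⟨t, ht⟩ := h1
    refine ⟨t, mem_rel.2 ?_⟩
    rw [← ht, Finset.smul_sum]
    simp [mul_smul]
  choose t ht using hz'
  have h1 : minor φ (fun b => a ^ t b • z b) ∈ Fitt.ideal R M j := by
    rw [ideal_eq_minors x hx]; exact minor_mem _ ht
  have h2 : minor φ (fun b => a ^ t b • z b) = (∏ b, a ^ t b) * minor φ z := by
    rw [← minorMap_apply, ← minorMap_apply, MultilinearMap.map_smul_univ, smul_eq_mul]
  obtain ⟨N, hN⟩ := h _ h1
  rw [h2, ← mul_assoc, Finset.prod_pow_eq_pow_sum, ← pow_add] at hN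
  rw [Ideal.mem_bot]
  exact (pow_mem ha _ : a ^ (N + ∑ b, t b) ∈ nonZeroDivisors R).1 _ hN

/-- Facts about (a copy of) an affine blow-up algebra. -/
theorem blowAlg_facts {I : Ideal R} {a : R} (ha : a ∈ I) {R₁ : Type u} [CommRing R₁] [Algebra R R₁]
    (e : R₁ ≃ₐ[R] ↥(BlowUp.affineAlgebra R I a)) :
    algebraMap R R₁ a ∈ nonZeroDivisors R₁ ∧ I.map (algebraMap R R₁) = Ideal.span {algebraMap R R₁ a} := by
  have hu : IsUnit (algebraMap R (Localization.Away a) a) := IsLocalization.Away.algebraMap_isUnit a
  have he : ∀ r, ((e (algebraMap R R₁ r) : BlowUp.affineAlgebra R I a) : Localization.Away a) = algebraMap R _ r :=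
    fun r => by rw [e.commutes]; rfl
  refine ⟨?_, le_antisymm ?_ ?_⟩
  · refine mem_nonZeroDivisors_iff_right.2 fun q hq => e.injective (Subtype.ext ?_)
    have h := congrArg (fun z => ((e z : BlowUp.affineAlgebra R I a) : Localization.Away a)) hq
    simp only [map_mul, Subalgebra.coe_mul, he, map_zero, Subalgebra.coe_zero] at h
    simpa using (hu.mul_left_eq_zero).1 h
  · rw [Ideal.map_le_iff_le_comap]
    intro x hx
    rw [Ideal.mem_comap, Ideal.mem_span_singleton]
    let w : BlowUp.affineAlgebra R I a :=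
      ⟨IsLocalization.mk' (Localization.Away a) x (⟨a, Submonoid.mem_powers a⟩ : Submonoid.powers a),
        Algebra.subset_adjoin ⟨x, hx, rfl⟩⟩
    refine ⟨e.symm w, e.injective (Subtype.ext ?_)⟩
    rw [map_mul, Subalgebra.coe_mul, AlgEquiv.apply_symm_apply, he, he]
    exact (IsLocalization.mk'_spec' (Localization.Away a) x (⟨a, Submonoid.mem_powers a⟩ : Submonoid.powers a)).symm
  · rw [Ideal.span_singleton_le_iff_mem]
    exact Ideal.mem_map_of_mem _ ha

variable {a : R} {R₁ : Type u} [CommRing R₁] [Algebra R R₁]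

/-- The main criterion. -/
theorem locallyFree_strictTransform [Module.Finite R M] {k : ℕ}
    (ha : algebraMap R R₁ a ∈ nonZeroDivisors R₁)
    (htop : Fitt.ideal R₁ ((R₁ ⊗[R] M) ⧸ FlatCA.powTorsion R₁ (algebraMap R R₁ a) (R₁ ⊗[R] M)) k = ⊤)
    (hlow : ∀ j, j < k → ∀ x ∈ Fitt.ideal R M j, ∃ n : ℕ, a ^ n * x = 0) :
    ∀ (p' : Ideal R₁) [p'.IsPrime], ∃ g : R₁, g ∉ p' ∧
      Module.Free (Localization.Away g) (LocalizedModule (Submonoid.powers g) ((R₁ ⊗[R] M) ⧸ FlatCA.powTorsion R₁ (algebraMap R R₁ a) (R₁ ⊗[R] M))) ∧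
      Module.finrank (Localization.Away g) (LocalizedModule (Submonoid.powers g) ((R₁ ⊗[R] M) ⧸ FlatCA.powTorsion R₁ (algebraMap R R₁ a) (R₁ ⊗[R] M))) = k := by
  refine (locallyFree_iff k).2 ⟨fun j hj => ?_, fun j hj => top_unique (htop ▸ ideal_mono hj)⟩
  refine ideal_quot_torsion_eq_bot ha fun x hx => ?_
  rw [ideal_baseChange (TensorProduct.isBaseChange R M R₁) j] at hx
  refine ⟨0, ?_⟩
  have hzero : (Fitt.ideal R M j).map (algebraMap R R₁) = ⊥ := by
    rw [Ideal.map_eq_bot_iff_le_ker]
    intro y hy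
    obtain ⟨n, hn⟩ := hlow j hj y hy
    have := congrArg (algebraMap R R₁) hn
    rw [map_mul, map_pow, map_zero] at this
    exact RingHom.mem_ker.2 ((pow_mem ha n : algebraMap R R₁ a ^ n ∈ nonZeroDivisors R₁).1 _ this)
  rw [hzero, Ideal.mem_bot] at hx
  rw [hx, mul_zero]

theorem exists_fg_le {f : R} {r : ℕ} [Module.Finite R M] (hf : f ∈ (Fitt.ideal R M r).radical) :
    ∃ (M₀ : Type u) (_ : AddCommGroup M₀) (_ : Module R M₀) (_ : Module.FinitePresentation R M₀) (π : M₀ →ₗ[R] M),
      Function.Surjective π ∧ (Fitt.ideal R M₀ r).radical = (Ideal.span {f}).radical := by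
  classical
  obtain ⟨n₀, x₀, hx₀⟩ := exists_gen R M
  let n := n₀ + (r + 1)
  let x : Fin n → M := Fin.append x₀ (fun _ => 0)
  have hx : Submodule.span R (Set.range x) = ⊤ := by
    refine top_unique (hx₀ ▸ Submodule.span_mono ?_)
    rintro _ ⟨i, rfl⟩
    exact ⟨Fin.castAdd _ i, Fin.append_left _ _ i⟩
  obtain ⟨N, hN⟩ := hf
  rw [ideal_eq_minors x hx] at hN
  -- finitely many relations suffice
  let m := n - r
  have hfin : ∃ K : Submodule R (Fin n → R), K.FG ∧ K ≤ rel (R := R) x ∧ f ^ N ∈ minors m K := by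
    have hdir : Directed (· ≤ ·) fun s : Finset (rel (R := R) x) => minors m (Submodule.span R ((s : Set (rel (R := R) x)).image Subtype.val)) :=
      fun s t => ⟨s ∪ t, minors_mono (Submodule.span_mono (Set.image_mono (by simp))),
        minors_mono (Submodule.span_mono (Set.image_mono (by simp)))⟩
    have hle : minors m (rel (R := R) x) ≤ ⨆ s : Finset (rel (R := R) x),
        minors m (Submodule.span R ((s : Set (rel (R := R) x)).image Subtype.val)) := by
      conv_lhs => rw [← Submodule.span_eq (rel (R := R) x)]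
      refine minors_le_of_span (span_proj n) fun φ _ z hz => ?_
      refine Submodule.mem_iSup_of_mem (Finset.univ.image fun b => (⟨z b, hz b⟩ : rel (R := R) x)) ?_
      exact minor_mem _ fun b => Submodule.subset_span ⟨⟨z b, hz b⟩, by simp, rfl⟩
    obtain ⟨s, hs⟩ := (Submodule.mem_iSup_of_directed _ hdir).1 (hle hN)
    refine ⟨_, Submodule.fg_span (s.finite_toSet.image _), Submodule.span_le.2 ?_, hs⟩
    rintro _ ⟨z, -, rfl⟩
    exact z.2
  obtain ⟨K, hKfg, hK, hfK⟩ := hfin
  let g : (Fin n → R) →ₗ[R] (Fin n → R) := f • LinearMap.id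
  let K' := K.map g
  haveI : Module.FinitePresentation R ((Fin n → R) ⧸ K') :=
    Module.finitePresentation_of_surjective K'.mkQ K'.mkQ_surjective (by rw [Submodule.ker_mkQ]; exact hKfg.map g)
  have hK' : K' ≤ LinearMap.ker (Fintype.linearCombination R x) := by
    rintro _ ⟨z, hz, rfl⟩
    simp only [g, LinearMap.smul_apply, LinearMap.id_apply, LinearMap.mem_ker, map_smul]
    rw [show Fintype.linearCombination R x z = 0 from hK hz, smul_zero]
  refine ⟨_, inferInstance, inferInstance, ‹_›, K'.liftQ _ hK', ?_, ?_⟩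
  · intro y
    have hy : y ∈ LinearMap.range (Fintype.linearCombination R x) := by
      rw [Fintype.range_linearCombination, hx]; trivial
    obtain ⟨z, rfl⟩ := hy
    exact ⟨Submodule.Quotient.mk z, rfl⟩
  · let ε : Fin n → (Fin n → R) ⧸ K' := fun i => Submodule.Quotient.mk (Pi.single i 1)
    have hrel : rel (R := R) ε = K' := by
      ext z
      rw [mem_rel, ← Submodule.Quotient.mk_eq_zero K' (x := z)]
      conv_rhs => rw [pi_eq_sum_univ' z]
      simp [ε, ← Submodule.mkQ_apply, map_sum]
    have hε : Submodule.span R (Set.range ε) = ⊤ := by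
      rw [show ε = K'.mkQ ∘ (fun i => Pi.single i 1) from rfl, Set.range_comp, Submodule.span_image]
      rw [show Submodule.span R (Set.range fun i : Fin n => (Pi.single i 1 : Fin n → R)) = ⊤ by
        convert (Pi.basisFun R (Fin n)).span_eq using 2
        ext i; simp]
      rw [Submodule.map_top, Submodule.range_mkQ]
    have key : minors m K' = Ideal.span {f ^ m} * minors m K := by
      apply le_antisymm
      · have hK'' : K' = Submodule.span R (g '' (K : Set (Fin n → R))) := by
          rw [Submodule.span_image, Submodule.span_eq]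
        rw [hK'']
        refine minors_le_of_span (span_proj n) fun φ _ z hz => ?_
        choose w hw hwz using hz
        have : minor φ z = f ^ m * minor φ w := by
          rw [← minorMap_apply, show z = fun b => f • w b from funext fun b => (hwz b).symm,
            MultilinearMap.map_smul_univ, Finset.prod_const, Finset.card_fin, smul_eq_mul, minorMap_apply]
        rw [this]
        exact Ideal.mul_mem_mul (Ideal.mem_span_singleton_self _) (minor_mem _ hw)
      · rw [Ideal.span_singleton_mul_le_iff]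
        intro y hy
        suffices minors m K ≤ (minors m K').colon {f ^ m} by
          have h := Submodule.mem_colon_singleton.1 (this hy)
          rwa [smul_eq_mul, mul_comm] at h
        conv_lhs => rw [← Submodule.span_eq K]
        refine minors_le_of_span (span_proj n) fun φ _ z hz => Submodule.mem_colon_singleton.2 ?_
        have : f ^ m * minor φ z = minor φ (fun b => g (z b)) := by
          rw [← minorMap_apply φ (fun b => g (z b))]
          simp only [g, LinearMap.smul_apply, LinearMap.id_apply]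
          rw [MultilinearMap.map_smul_univ, Finset.prod_const, Finset.card_fin, smul_eq_mul, minorMap_apply]
        rw [smul_eq_mul, mul_comm, this]
        exact minor_mem _ fun b => ⟨z b, hz b, rfl⟩
    rw [ideal_eq_minors ε hε, hrel, key]
    apply le_antisymm
    · refine Ideal.radical_mono (Ideal.mul_le_left.trans ?_)
      rw [Ideal.span_singleton_le_span_singleton]
      exact dvd_pow_self f (by omega)
    · rw [Ideal.radical_le_radical_iff, Ideal.span_singleton_le_iff_mem]
      exact ⟨m + N, by rw [pow_add]; exact Ideal.mul_mem_mul (Ideal.mem_span_singleton_self _) hfK⟩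

end Groth.Agent.FittBlow95
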