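import Groth.Agent.FittX.Free
import Mathlib.RingTheory.Grassmannian

/-!
# Fitting ideals of cokernels and of locally free quotients
-/

universe u v

open Module TensorProduct

namespace Groth.Agent.FittBlow95

open Groth.Agent.FittX

variable {R : Type u} [CommRing R]

theorem ideal_coker {n : ℕ} (K : Submodule R (Fin n → R)) (k : ℕ) :
    Fitt.ideal R ((Fin n → R) ⧸ K) k = minors (n - k) K := by
  have hrel : rel (R := R) (fun i => (Submodule.Quotient.mk (Pi.single i 1) : (Fin n → R) ⧸ K)) = K := by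
    ext z
    rw [mem_rel, ← Submodule.Quotient.mk_eq_zero K (x := z)]
    conv_rhs => rw [pi_eq_sum_univ' z]
    simp [← Submodule.mkQ_apply, map_sum]
  rw [ideal_eq_minors (fun i => (Submodule.Quotient.mk (Pi.single i 1) : (Fin n → R) ⧸ K)), hrel]
  rw [show (fun i => (Submodule.Quotient.mk (Pi.single i 1) : (Fin n → R) ⧸ K)) =
    K.mkQ ∘ (fun i => Pi.single i 1) from rfl, Set.range_comp, Submodule.span_image]
  rw [show Submodule.span R (Set.range fun i : Fin n => (Pi.single i 1 : Fin n → R)) = ⊤ by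
    convert (Pi.basisFun R (Fin n)).span_eq using 2
    ext i; simp]
  rw [Submodule.map_top, Submodule.range_mkQ]

theorem range_eq_span {m : ℕ} {F : Type u} [AddCommGroup F] [Module R F] (τ : (Fin m → R) →ₗ[R] F) :
    LinearMap.range τ = Submodule.span R (Set.range fun j => τ (Pi.single j 1)) := by
  rw [show (fun j => τ (Pi.single j 1)) = τ ∘ Pi.basisFun R (Fin m) from funext fun j => by simp,
    Set.range_comp, Submodule.span_image, Basis.span_eq, Submodule.map_top]

theorem minors_range_le_transpose {m n N : ℕ} (σ : (Fin m → R) →ₗ[R] (Fin n → R)) (τ : (Fin n → R) →ₗ[R] (Fin m → R))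
    (h : ∀ i j, τ (Pi.single i 1) j = σ (Pi.single j 1) i) :
    minors N (LinearMap.range σ) ≤ minors N (LinearMap.range τ) := by
  rw [range_eq_span σ]
  refine minors_le_of_span (span_proj n) fun φ hφ z hz => ?_
  choose r hr using hφ
  choose c hc using hz
  have key : minor φ z = minor (fun b => (LinearMap.proj (c b) : Dual R (Fin m → R))) (fun a => τ (Pi.single (r a) 1)) := by
    rw [minor, minor, ← Matrix.det_transpose]
    congr 1
    ext b a
    simp [← hr b, ← hc a, h]
  rw [key]
  exact minor_mem _ fun a => ⟨_, rfl⟩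

theorem minors_range_eq_bot {m n N : ℕ} (σ : (Fin m → R) →ₗ[R] (Fin n → R)) (hN : m < N) :
    minors N (LinearMap.range σ) = ⊥ := by
  rw [eq_bot_iff, range_eq_span σ]
  refine minors_le_of_span (span_proj n) fun φ _ z hz => ?_
  choose c hc using hz
  obtain ⟨b, b', hne, e⟩ := Fintype.exists_ne_map_eq_of_card_lt c (by simpa using hN)
  rw [Ideal.mem_bot, minor]
  refine Matrix.det_zero_of_row_eq hne (funext fun a => ?_)
  simp [← hc b, ← hc b', e]

theorem ideal_coker_dual (m n : ℕ) (σ : (Fin m → R) →ₗ[R] (Fin n → R)) (hσ : Function.Injective σ) :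
    (∀ j : ℕ, Fitt.ideal R ((Fin n → R) ⧸ LinearMap.range σ) (n - m + j) =
        Fitt.ideal R (Module.Dual R (Fin m → R) ⧸ LinearMap.range σ.dualMap) j) ∧
      ∀ i : ℕ, i < n - m → Fitt.ideal R ((Fin n → R) ⧸ LinearMap.range σ) i = ⊥ := by
  rcases subsingleton_or_nontrivial R with hR | hR
  · exact ⟨fun _ => Subsingleton.elim _ _, fun _ _ => Subsingleton.elim _ _⟩
  have hmn : m ≤ n := le_of_fin_injective R σ hσ
  refine ⟨fun j => ?_, fun i hi => by rw [ideal_coker]; exact minors_range_eq_bot σ (by omega)⟩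
  let em : Dual R (Fin m → R) ≃ₗ[R] (Fin m → R) := (Pi.basisFun R (Fin m)).dualBasis.equivFun
  let en : Dual R (Fin n → R) ≃ₗ[R] (Fin n → R) := (Pi.basisFun R (Fin n)).dualBasis.equivFun
  let τ : (Fin n → R) →ₗ[R] (Fin m → R) := em.toLinearMap ∘ₗ σ.dualMap ∘ₗ en.symm.toLinearMap
  have hmap : (LinearMap.range σ.dualMap).map (em : Dual R (Fin m → R) →ₗ[R] Fin m → R) = LinearMap.range τ := by
    rw [show τ = (em.toLinearMap ∘ₗ σ.dualMap) ∘ₗ en.symm.toLinearMap from rfl, LinearMap.range_comp_of_range_eq_top _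
      (LinearEquiv.range _), LinearMap.range_comp]
  have hτ : ∀ i j, τ (Pi.single i 1) j = σ (Pi.single j 1) i := by
    intro i j
    have h1 : en.symm (Pi.single i 1) = (LinearMap.proj i : Dual R (Fin n → R)) := by
      rw [LinearEquiv.symm_apply_eq]
      ext k
      simp [en, Basis.equivFun_apply, Pi.single_apply, eq_comm]
    simp [τ, h1, em, Basis.equivFun_apply]
  rw [ideal_congr (Submodule.Quotient.equiv _ _ em hmap), ideal_coker, ideal_coker,
    show n - (n - m + j) = m - j by omega]
  exact le_antisymm (minors_range_le_transpose σ τ hτ)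
    (minors_range_le_transpose τ σ fun i j => (hτ j i).symm)

end Groth.Agent.FittBlow95
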